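import Cfsg.Agent.Lib.SporRecognition.Cert.Fi23Conf.Defs
import Cfsg.Agent.Lib.SporRecognition.Cert.Fi23X.Orbits
import Cfsg.Agent.S1688

/-! Generated configuration certificate for Fi23: the class of transpositions. -/

set_option autoImplicit false
set_option maxRecDepth 20000
set_option linter.all false
set_option Elab.async false

namespace CfsgLib.SporRecognition.Cert.Fi23Conf

open CfsgLib.SporRecognition.CosetCert
open CfsgLib.SporRecognition.FischerAut
open CfsgLib.SporRecognition.Cert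

def zw : List (Cfsg.Spor.Fi23.Gen × Bool) := Cfsg.Agent.S1688.zw

theorem hom_inj : Function.Injective Fi23X.certified.hom := by
  exact Cfsg.Agent.S1688.hom_injective

theorem relW_one : ∀ w ∈ Fi23X.relW,
    evalW (PresentedGroup.of (rels := Cfsg.Spor.coxRelators Cfsg.Spor.Fi23.edges ∪ {r | r ∈ Cfsg.Spor.Fi23.extra})) w = 1 := by
  have h : coxW Cfsg.Spor.Fi23.edges Fi23X.pairs Fi23X.extraW = Fi23X.relW := by decide +kernel
  rw [← h]
  exact coxW_eq_one (by decide +kernel) rfl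

theorem base : Base Fi23X.certified zw := by
  refine ⟨hom_inj, fun w hw => ?_, by decide +kernel⟩
  rw [Cfsg.Agent.S1688.subW_eq] at hw
  obtain ⟨x, -, rfl⟩ := List.mem_map.mp hw
  rw [show evalW (PresentedGroup.of (rels := Cfsg.Spor.coxRelators Cfsg.Spor.Fi23.edges ∪ {r | r ∈ Cfsg.Spor.Fi23.extra})) [(Cfsg.Agent.S1688.emb x, true)] =
    PresentedGroup.of (Cfsg.Agent.S1688.emb x) by simp [evalW_eq_prod]]
  exact Cfsg.Agent.S1688.zw_comm x

def wJ : List (Cfsg.Spor.Fi23.Gen × Bool) := [(.g, true), (.f, true), (.e, true), (.d, true), (.h, true), (.c, true), (.d, true), (.e, true), (.b, true), (.c, true), (.d, true), (.h, true), (.f, true), (.g, true), (.e, true), (.f, true), (.d, true), (.e, true), (.c, true), (.d, true), (.h, true), (.b, true), (.c, true), (.d, true), (.e, true), (.f, true), (.g, true), (.j, true)]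

def wJr : List (Cfsg.Spor.Fi23.Gen × Bool) := [(.j, true), (.g, true), (.f, true), (.e, true), (.d, true), (.c, true), (.b, true), (.h, true), (.d, true), (.c, true), (.e, true), (.d, true), (.f, true), (.e, true), (.g, true), (.f, true), (.h, true), (.d, true), (.c, true), (.b, true), (.e, true), (.d, true), (.c, true), (.h, true), (.d, true), (.e, true), (.f, true), (.g, true)]

theorem conjJ_c0 : allPow 31671 (fun u => Nat.beq (trace (wordTabs Fi23X.tabs wJr) u |> fun x => trace (wordTabs Fi23X.tabs wJ) (Fi23X.Z x)) (Fi23X.tabs .j true u)) 9 0 = true := by decide +kernel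
theorem conjJ_c1 : allPow 31671 (fun u => Nat.beq (trace (wordTabs Fi23X.tabs wJr) u |> fun x => trace (wordTabs Fi23X.tabs wJ) (Fi23X.Z x)) (Fi23X.tabs .j true u)) 9 512 = true := by decide +kernel
theorem conjJ_c2 : allPow 31671 (fun u => Nat.beq (trace (wordTabs Fi23X.tabs wJr) u |> fun x => trace (wordTabs Fi23X.tabs wJ) (Fi23X.Z x)) (Fi23X.tabs .j true u)) 9 1024 = true := by decide +kernel
theorem conjJ_c3 : allPow 31671 (fun u => Nat.beq (trace (wordTabs Fi23X.tabs wJr) u |> fun x => trace (wordTabs Fi23X.tabs wJ) (Fi23X.Z x)) (Fi23X.tabs .j true u)) 9 1536 = true := by decide +kernel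
theorem conjJ_c4 : allPow 31671 (fun u => Nat.beq (trace (wordTabs Fi23X.tabs wJr) u |> fun x => trace (wordTabs Fi23X.tabs wJ) (Fi23X.Z x)) (Fi23X.tabs .j true u)) 9 2048 = true := by decide +kernel
theorem conjJ_c5 : allPow 31671 (fun u => Nat.beq (trace (wordTabs Fi23X.tabs wJr) u |> fun x => trace (wordTabs Fi23X.tabs wJ) (Fi23X.Z x)) (Fi23X.tabs .j true u)) 9 2560 = true := by decide +kernel
theorem conjJ_c6 : allPow 31671 (fun u => Nat.beq (trace (wordTabs Fi23X.tabs wJr) u |> fun x => trace (wordTabs Fi23X.tabs wJ) (Fi23X.Z x)) (Fi23X.tabs .j true u)) 9 3072 = true := by decide +kernel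
theorem conjJ_c7 : allPow 31671 (fun u => Nat.beq (trace (wordTabs Fi23X.tabs wJr) u |> fun x => trace (wordTabs Fi23X.tabs wJ) (Fi23X.Z x)) (Fi23X.tabs .j true u)) 9 3584 = true := by decide +kernel
theorem conjJ_c8 : allPow 31671 (fun u => Nat.beq (trace (wordTabs Fi23X.tabs wJr) u |> fun x => trace (wordTabs Fi23X.tabs wJ) (Fi23X.Z x)) (Fi23X.tabs .j true u)) 9 4096 = true := by decide +kernel
theorem conjJ_c9 : allPow 31671 (fun u => Nat.beq (trace (wordTabs Fi23X.tabs wJr) u |> fun x => trace (wordTabs Fi23X.tabs wJ) (Fi23X.Z x)) (Fi23X.tabs .j true u)) 9 4608 = true := by decide +kernel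
theorem conjJ_c10 : allPow 31671 (fun u => Nat.beq (trace (wordTabs Fi23X.tabs wJr) u |> fun x => trace (wordTabs Fi23X.tabs wJ) (Fi23X.Z x)) (Fi23X.tabs .j true u)) 9 5120 = true := by decide +kernel
theorem conjJ_c11 : allPow 31671 (fun u => Nat.beq (trace (wordTabs Fi23X.tabs wJr) u |> fun x => trace (wordTabs Fi23X.tabs wJ) (Fi23X.Z x)) (Fi23X.tabs .j true u)) 9 5632 = true := by decide +kernel
theorem conjJ_c12 : allPow 31671 (fun u => Nat.beq (trace (wordTabs Fi23X.tabs wJr) u |> fun x => trace (wordTabs Fi23X.tabs wJ) (Fi23X.Z x)) (Fi23X.tabs .j true u)) 9 6144 = true := by decide +kernel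
theorem conjJ_c13 : allPow 31671 (fun u => Nat.beq (trace (wordTabs Fi23X.tabs wJr) u |> fun x => trace (wordTabs Fi23X.tabs wJ) (Fi23X.Z x)) (Fi23X.tabs .j true u)) 9 6656 = true := by decide +kernel
theorem conjJ_c14 : allPow 31671 (fun u => Nat.beq (trace (wordTabs Fi23X.tabs wJr) u |> fun x => trace (wordTabs Fi23X.tabs wJ) (Fi23X.Z x)) (Fi23X.tabs .j true u)) 9 7168 = true := by decide +kernel
theorem conjJ_c15 : allPow 31671 (fun u => Nat.beq (trace (wordTabs Fi23X.tabs wJr) u |> fun x => trace (wordTabs Fi23X.tabs wJ) (Fi23X.Z x)) (Fi23X.tabs .j true u)) 9 7680 = true := by decide +kernel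
theorem conjJ_c16 : allPow 31671 (fun u => Nat.beq (trace (wordTabs Fi23X.tabs wJr) u |> fun x => trace (wordTabs Fi23X.tabs wJ) (Fi23X.Z x)) (Fi23X.tabs .j true u)) 9 8192 = true := by decide +kernel
theorem conjJ_c17 : allPow 31671 (fun u => Nat.beq (trace (wordTabs Fi23X.tabs wJr) u |> fun x => trace (wordTabs Fi23X.tabs wJ) (Fi23X.Z x)) (Fi23X.tabs .j true u)) 9 8704 = true := by decide +kernel
theorem conjJ_c18 : allPow 31671 (fun u => Nat.beq (trace (wordTabs Fi23X.tabs wJr) u |> fun x => trace (wordTabs Fi23X.tabs wJ) (Fi23X.Z x)) (Fi23X.tabs .j true u)) 9 9216 = true := by decide +kernel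
theorem conjJ_c19 : allPow 31671 (fun u => Nat.beq (trace (wordTabs Fi23X.tabs wJr) u |> fun x => trace (wordTabs Fi23X.tabs wJ) (Fi23X.Z x)) (Fi23X.tabs .j true u)) 9 9728 = true := by decide +kernel
theorem conjJ_c20 : allPow 31671 (fun u => Nat.beq (trace (wordTabs Fi23X.tabs wJr) u |> fun x => trace (wordTabs Fi23X.tabs wJ) (Fi23X.Z x)) (Fi23X.tabs .j true u)) 9 10240 = true := by decide +kernel
theorem conjJ_c21 : allPow 31671 (fun u => Nat.beq (trace (wordTabs Fi23X.tabs wJr) u |> fun x => trace (wordTabs Fi23X.tabs wJ) (Fi23X.Z x)) (Fi23X.tabs .j true u)) 9 10752 = true := by decide +kernel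
theorem conjJ_c22 : allPow 31671 (fun u => Nat.beq (trace (wordTabs Fi23X.tabs wJr) u |> fun x => trace (wordTabs Fi23X.tabs wJ) (Fi23X.Z x)) (Fi23X.tabs .j true u)) 9 11264 = true := by decide +kernel
theorem conjJ_c23 : allPow 31671 (fun u => Nat.beq (trace (wordTabs Fi23X.tabs wJr) u |> fun x => trace (wordTabs Fi23X.tabs wJ) (Fi23X.Z x)) (Fi23X.tabs .j true u)) 9 11776 = true := by decide +kernel
theorem conjJ_c24 : allPow 31671 (fun u => Nat.beq (trace (wordTabs Fi23X.tabs wJr) u |> fun x => trace (wordTabs Fi23X.tabs wJ) (Fi23X.Z x)) (Fi23X.tabs .j true u)) 9 12288 = true := by decide +kernel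
theorem conjJ_c25 : allPow 31671 (fun u => Nat.beq (trace (wordTabs Fi23X.tabs wJr) u |> fun x => trace (wordTabs Fi23X.tabs wJ) (Fi23X.Z x)) (Fi23X.tabs .j true u)) 9 12800 = true := by decide +kernel
theorem conjJ_c26 : allPow 31671 (fun u => Nat.beq (trace (wordTabs Fi23X.tabs wJr) u |> fun x => trace (wordTabs Fi23X.tabs wJ) (Fi23X.Z x)) (Fi23X.tabs .j true u)) 9 13312 = true := by decide +kernel
theorem conjJ_c27 : allPow 31671 (fun u => Nat.beq (trace (wordTabs Fi23X.tabs wJr) u |> fun x => trace (wordTabs Fi23X.tabs wJ) (Fi23X.Z x)) (Fi23X.tabs .j true u)) 9 13824 = true := by decide +kernel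
theorem conjJ_c28 : allPow 31671 (fun u => Nat.beq (trace (wordTabs Fi23X.tabs wJr) u |> fun x => trace (wordTabs Fi23X.tabs wJ) (Fi23X.Z x)) (Fi23X.tabs .j true u)) 9 14336 = true := by decide +kernel
theorem conjJ_c29 : allPow 31671 (fun u => Nat.beq (trace (wordTabs Fi23X.tabs wJr) u |> fun x => trace (wordTabs Fi23X.tabs wJ) (Fi23X.Z x)) (Fi23X.tabs .j true u)) 9 14848 = true := by decide +kernel
theorem conjJ_c30 : allPow 31671 (fun u => Nat.beq (trace (wordTabs Fi23X.tabs wJr) u |> fun x => trace (wordTabs Fi23X.tabs wJ) (Fi23X.Z x)) (Fi23X.tabs .j true u)) 9 15360 = true := by decide +kernel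
theorem conjJ_c31 : allPow 31671 (fun u => Nat.beq (trace (wordTabs Fi23X.tabs wJr) u |> fun x => trace (wordTabs Fi23X.tabs wJ) (Fi23X.Z x)) (Fi23X.tabs .j true u)) 9 15872 = true := by decide +kernel
theorem conjJ_c32 : allPow 31671 (fun u => Nat.beq (trace (wordTabs Fi23X.tabs wJr) u |> fun x => trace (wordTabs Fi23X.tabs wJ) (Fi23X.Z x)) (Fi23X.tabs .j true u)) 9 16384 = true := by decide +kernel
theorem conjJ_c33 : allPow 31671 (fun u => Nat.beq (trace (wordTabs Fi23X.tabs wJr) u |> fun x => trace (wordTabs Fi23X.tabs wJ) (Fi23X.Z x)) (Fi23X.tabs .j true u)) 9 16896 = true := by decide +kernel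
theorem conjJ_c34 : allPow 31671 (fun u => Nat.beq (trace (wordTabs Fi23X.tabs wJr) u |> fun x => trace (wordTabs Fi23X.tabs wJ) (Fi23X.Z x)) (Fi23X.tabs .j true u)) 9 17408 = true := by decide +kernel
theorem conjJ_c35 : allPow 31671 (fun u => Nat.beq (trace (wordTabs Fi23X.tabs wJr) u |> fun x => trace (wordTabs Fi23X.tabs wJ) (Fi23X.Z x)) (Fi23X.tabs .j true u)) 9 17920 = true := by decide +kernel
theorem conjJ_c36 : allPow 31671 (fun u => Nat.beq (trace (wordTabs Fi23X.tabs wJr) u |> fun x => trace (wordTabs Fi23X.tabs wJ) (Fi23X.Z x)) (Fi23X.tabs .j true u)) 9 18432 = true := by decide +kernel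
theorem conjJ_c37 : allPow 31671 (fun u => Nat.beq (trace (wordTabs Fi23X.tabs wJr) u |> fun x => trace (wordTabs Fi23X.tabs wJ) (Fi23X.Z x)) (Fi23X.tabs .j true u)) 9 18944 = true := by decide +kernel
theorem conjJ_c38 : allPow 31671 (fun u => Nat.beq (trace (wordTabs Fi23X.tabs wJr) u |> fun x => trace (wordTabs Fi23X.tabs wJ) (Fi23X.Z x)) (Fi23X.tabs .j true u)) 9 19456 = true := by decide +kernel
theorem conjJ_c39 : allPow 31671 (fun u => Nat.beq (trace (wordTabs Fi23X.tabs wJr) u |> fun x => trace (wordTabs Fi23X.tabs wJ) (Fi23X.Z x)) (Fi23X.tabs .j true u)) 9 19968 = true := by decide +kernel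
theorem conjJ_c40 : allPow 31671 (fun u => Nat.beq (trace (wordTabs Fi23X.tabs wJr) u |> fun x => trace (wordTabs Fi23X.tabs wJ) (Fi23X.Z x)) (Fi23X.tabs .j true u)) 9 20480 = true := by decide +kernel
theorem conjJ_c41 : allPow 31671 (fun u => Nat.beq (trace (wordTabs Fi23X.tabs wJr) u |> fun x => trace (wordTabs Fi23X.tabs wJ) (Fi23X.Z x)) (Fi23X.tabs .j true u)) 9 20992 = true := by decide +kernel
theorem conjJ_c42 : allPow 31671 (fun u => Nat.beq (trace (wordTabs Fi23X.tabs wJr) u |> fun x => trace (wordTabs Fi23X.tabs wJ) (Fi23X.Z x)) (Fi23X.tabs .j true u)) 9 21504 = true := by decide +kernel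
theorem conjJ_c43 : allPow 31671 (fun u => Nat.beq (trace (wordTabs Fi23X.tabs wJr) u |> fun x => trace (wordTabs Fi23X.tabs wJ) (Fi23X.Z x)) (Fi23X.tabs .j true u)) 9 22016 = true := by decide +kernel
theorem conjJ_c44 : allPow 31671 (fun u => Nat.beq (trace (wordTabs Fi23X.tabs wJr) u |> fun x => trace (wordTabs Fi23X.tabs wJ) (Fi23X.Z x)) (Fi23X.tabs .j true u)) 9 22528 = true := by decide +kernel
theorem conjJ_c45 : allPow 31671 (fun u => Nat.beq (trace (wordTabs Fi23X.tabs wJr) u |> fun x => trace (wordTabs Fi23X.tabs wJ) (Fi23X.Z x)) (Fi23X.tabs .j true u)) 9 23040 = true := by decide +kernel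
theorem conjJ_c46 : allPow 31671 (fun u => Nat.beq (trace (wordTabs Fi23X.tabs wJr) u |> fun x => trace (wordTabs Fi23X.tabs wJ) (Fi23X.Z x)) (Fi23X.tabs .j true u)) 9 23552 = true := by decide +kernel
theorem conjJ_c47 : allPow 31671 (fun u => Nat.beq (trace (wordTabs Fi23X.tabs wJr) u |> fun x => trace (wordTabs Fi23X.tabs wJ) (Fi23X.Z x)) (Fi23X.tabs .j true u)) 9 24064 = true := by decide +kernel
theorem conjJ_c48 : allPow 31671 (fun u => Nat.beq (trace (wordTabs Fi23X.tabs wJr) u |> fun x => trace (wordTabs Fi23X.tabs wJ) (Fi23X.Z x)) (Fi23X.tabs .j true u)) 9 24576 = true := by decide +kernel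
theorem conjJ_c49 : allPow 31671 (fun u => Nat.beq (trace (wordTabs Fi23X.tabs wJr) u |> fun x => trace (wordTabs Fi23X.tabs wJ) (Fi23X.Z x)) (Fi23X.tabs .j true u)) 9 25088 = true := by decide +kernel
theorem conjJ_c50 : allPow 31671 (fun u => Nat.beq (trace (wordTabs Fi23X.tabs wJr) u |> fun x => trace (wordTabs Fi23X.tabs wJ) (Fi23X.Z x)) (Fi23X.tabs .j true u)) 9 25600 = true := by decide +kernel
theorem conjJ_c51 : allPow 31671 (fun u => Nat.beq (trace (wordTabs Fi23X.tabs wJr) u |> fun x => trace (wordTabs Fi23X.tabs wJ) (Fi23X.Z x)) (Fi23X.tabs .j true u)) 9 26112 = true := by decide +kernel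
theorem conjJ_c52 : allPow 31671 (fun u => Nat.beq (trace (wordTabs Fi23X.tabs wJr) u |> fun x => trace (wordTabs Fi23X.tabs wJ) (Fi23X.Z x)) (Fi23X.tabs .j true u)) 9 26624 = true := by decide +kernel
theorem conjJ_c53 : allPow 31671 (fun u => Nat.beq (trace (wordTabs Fi23X.tabs wJr) u |> fun x => trace (wordTabs Fi23X.tabs wJ) (Fi23X.Z x)) (Fi23X.tabs .j true u)) 9 27136 = true := by decide +kernel
theorem conjJ_c54 : allPow 31671 (fun u => Nat.beq (trace (wordTabs Fi23X.tabs wJr) u |> fun x => trace (wordTabs Fi23X.tabs wJ) (Fi23X.Z x)) (Fi23X.tabs .j true u)) 9 27648 = true := by decide +kernel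
theorem conjJ_c55 : allPow 31671 (fun u => Nat.beq (trace (wordTabs Fi23X.tabs wJr) u |> fun x => trace (wordTabs Fi23X.tabs wJ) (Fi23X.Z x)) (Fi23X.tabs .j true u)) 9 28160 = true := by decide +kernel
theorem conjJ_c56 : allPow 31671 (fun u => Nat.beq (trace (wordTabs Fi23X.tabs wJr) u |> fun x => trace (wordTabs Fi23X.tabs wJ) (Fi23X.Z x)) (Fi23X.tabs .j true u)) 9 28672 = true := by decide +kernel
theorem conjJ_c57 : allPow 31671 (fun u => Nat.beq (trace (wordTabs Fi23X.tabs wJr) u |> fun x => trace (wordTabs Fi23X.tabs wJ) (Fi23X.Z x)) (Fi23X.tabs .j true u)) 9 29184 = true := by decide +kernel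
theorem conjJ_c58 : allPow 31671 (fun u => Nat.beq (trace (wordTabs Fi23X.tabs wJr) u |> fun x => trace (wordTabs Fi23X.tabs wJ) (Fi23X.Z x)) (Fi23X.tabs .j true u)) 9 29696 = true := by decide +kernel
theorem conjJ_c59 : allPow 31671 (fun u => Nat.beq (trace (wordTabs Fi23X.tabs wJr) u |> fun x => trace (wordTabs Fi23X.tabs wJ) (Fi23X.Z x)) (Fi23X.tabs .j true u)) 9 30208 = true := by decide +kernel
theorem conjJ_c60 : allPow 31671 (fun u => Nat.beq (trace (wordTabs Fi23X.tabs wJr) u |> fun x => trace (wordTabs Fi23X.tabs wJ) (Fi23X.Z x)) (Fi23X.tabs .j true u)) 9 30720 = true := by decide +kernel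
theorem conjJ_c61 : allPow 31671 (fun u => Nat.beq (trace (wordTabs Fi23X.tabs wJr) u |> fun x => trace (wordTabs Fi23X.tabs wJ) (Fi23X.Z x)) (Fi23X.tabs .j true u)) 9 31232 = true := by decide +kernel
theorem conjJ : allBelow 15 31671 (fun u => Nat.beq (trace (wordTabs Fi23X.tabs wJr) u |> fun x => trace (wordTabs Fi23X.tabs wJ) (Fi23X.Z x)) (Fi23X.tabs .j true u)) = true :=
  allBelow_of_upto (hi := 31744)
    (Upto.trans (mid := 15872) (Upto.trans (mid := 7680) (Upto.trans (mid := 3584) (Upto.trans (mid := 1536) (Upto.trans (mid := 512) ((Upto.of_pow conjJ_c0 (Nat.le_refl _)) : Upto _ _ 0 (0 + 2 ^ 9))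
    (Upto.trans (mid := 1024) ((Upto.of_pow conjJ_c1 (Nat.le_refl _)) : Upto _ _ 512 (512 + 2 ^ 9))
    ((Upto.of_pow conjJ_c2 (Nat.le_refl _)) : Upto _ _ 1024 (1024 + 2 ^ 9))))
    (Upto.trans (mid := 2560) (Upto.trans (mid := 2048) ((Upto.of_pow conjJ_c3 (Nat.le_refl _)) : Upto _ _ 1536 (1536 + 2 ^ 9))
    ((Upto.of_pow conjJ_c4 (Nat.le_refl _)) : Upto _ _ 2048 (2048 + 2 ^ 9)))
    (Upto.trans (mid := 3072) ((Upto.of_pow conjJ_c5 (Nat.le_refl _)) : Upto _ _ 2560 (2560 + 2 ^ 9))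
    ((Upto.of_pow conjJ_c6 (Nat.le_refl _)) : Upto _ _ 3072 (3072 + 2 ^ 9)))))
    (Upto.trans (mid := 5632) (Upto.trans (mid := 4608) (Upto.trans (mid := 4096) ((Upto.of_pow conjJ_c7 (Nat.le_refl _)) : Upto _ _ 3584 (3584 + 2 ^ 9))
    ((Upto.of_pow conjJ_c8 (Nat.le_refl _)) : Upto _ _ 4096 (4096 + 2 ^ 9)))
    (Upto.trans (mid := 5120) ((Upto.of_pow conjJ_c9 (Nat.le_refl _)) : Upto _ _ 4608 (4608 + 2 ^ 9))
    ((Upto.of_pow conjJ_c10 (Nat.le_refl _)) : Upto _ _ 5120 (5120 + 2 ^ 9))))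
    (Upto.trans (mid := 6656) (Upto.trans (mid := 6144) ((Upto.of_pow conjJ_c11 (Nat.le_refl _)) : Upto _ _ 5632 (5632 + 2 ^ 9))
    ((Upto.of_pow conjJ_c12 (Nat.le_refl _)) : Upto _ _ 6144 (6144 + 2 ^ 9)))
    (Upto.trans (mid := 7168) ((Upto.of_pow conjJ_c13 (Nat.le_refl _)) : Upto _ _ 6656 (6656 + 2 ^ 9))
    ((Upto.of_pow conjJ_c14 (Nat.le_refl _)) : Upto _ _ 7168 (7168 + 2 ^ 9))))))
    (Upto.trans (mid := 11776) (Upto.trans (mid := 9728) (Upto.trans (mid := 8704) (Upto.trans (mid := 8192) ((Upto.of_pow conjJ_c15 (Nat.le_refl _)) : Upto _ _ 7680 (7680 + 2 ^ 9))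
    ((Upto.of_pow conjJ_c16 (Nat.le_refl _)) : Upto _ _ 8192 (8192 + 2 ^ 9)))
    (Upto.trans (mid := 9216) ((Upto.of_pow conjJ_c17 (Nat.le_refl _)) : Upto _ _ 8704 (8704 + 2 ^ 9))
    ((Upto.of_pow conjJ_c18 (Nat.le_refl _)) : Upto _ _ 9216 (9216 + 2 ^ 9))))
    (Upto.trans (mid := 10752) (Upto.trans (mid := 10240) ((Upto.of_pow conjJ_c19 (Nat.le_refl _)) : Upto _ _ 9728 (9728 + 2 ^ 9))
    ((Upto.of_pow conjJ_c20 (Nat.le_refl _)) : Upto _ _ 10240 (10240 + 2 ^ 9)))
    (Upto.trans (mid := 11264) ((Upto.of_pow conjJ_c21 (Nat.le_refl _)) : Upto _ _ 10752 (10752 + 2 ^ 9))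
    ((Upto.of_pow conjJ_c22 (Nat.le_refl _)) : Upto _ _ 11264 (11264 + 2 ^ 9)))))
    (Upto.trans (mid := 13824) (Upto.trans (mid := 12800) (Upto.trans (mid := 12288) ((Upto.of_pow conjJ_c23 (Nat.le_refl _)) : Upto _ _ 11776 (11776 + 2 ^ 9))
    ((Upto.of_pow conjJ_c24 (Nat.le_refl _)) : Upto _ _ 12288 (12288 + 2 ^ 9)))
    (Upto.trans (mid := 13312) ((Upto.of_pow conjJ_c25 (Nat.le_refl _)) : Upto _ _ 12800 (12800 + 2 ^ 9))
    ((Upto.of_pow conjJ_c26 (Nat.le_refl _)) : Upto _ _ 13312 (13312 + 2 ^ 9))))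
    (Upto.trans (mid := 14848) (Upto.trans (mid := 14336) ((Upto.of_pow conjJ_c27 (Nat.le_refl _)) : Upto _ _ 13824 (13824 + 2 ^ 9))
    ((Upto.of_pow conjJ_c28 (Nat.le_refl _)) : Upto _ _ 14336 (14336 + 2 ^ 9)))
    (Upto.trans (mid := 15360) ((Upto.of_pow conjJ_c29 (Nat.le_refl _)) : Upto _ _ 14848 (14848 + 2 ^ 9))
    ((Upto.of_pow conjJ_c30 (Nat.le_refl _)) : Upto _ _ 15360 (15360 + 2 ^ 9)))))))
    (Upto.trans (mid := 23552) (Upto.trans (mid := 19456) (Upto.trans (mid := 17408) (Upto.trans (mid := 16384) ((Upto.of_pow conjJ_c31 (Nat.le_refl _)) : Upto _ _ 15872 (15872 + 2 ^ 9))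
    (Upto.trans (mid := 16896) ((Upto.of_pow conjJ_c32 (Nat.le_refl _)) : Upto _ _ 16384 (16384 + 2 ^ 9))
    ((Upto.of_pow conjJ_c33 (Nat.le_refl _)) : Upto _ _ 16896 (16896 + 2 ^ 9))))
    (Upto.trans (mid := 18432) (Upto.trans (mid := 17920) ((Upto.of_pow conjJ_c34 (Nat.le_refl _)) : Upto _ _ 17408 (17408 + 2 ^ 9))
    ((Upto.of_pow conjJ_c35 (Nat.le_refl _)) : Upto _ _ 17920 (17920 + 2 ^ 9)))
    (Upto.trans (mid := 18944) ((Upto.of_pow conjJ_c36 (Nat.le_refl _)) : Upto _ _ 18432 (18432 + 2 ^ 9))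
    ((Upto.of_pow conjJ_c37 (Nat.le_refl _)) : Upto _ _ 18944 (18944 + 2 ^ 9)))))
    (Upto.trans (mid := 21504) (Upto.trans (mid := 20480) (Upto.trans (mid := 19968) ((Upto.of_pow conjJ_c38 (Nat.le_refl _)) : Upto _ _ 19456 (19456 + 2 ^ 9))
    ((Upto.of_pow conjJ_c39 (Nat.le_refl _)) : Upto _ _ 19968 (19968 + 2 ^ 9)))
    (Upto.trans (mid := 20992) ((Upto.of_pow conjJ_c40 (Nat.le_refl _)) : Upto _ _ 20480 (20480 + 2 ^ 9))
    ((Upto.of_pow conjJ_c41 (Nat.le_refl _)) : Upto _ _ 20992 (20992 + 2 ^ 9))))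
    (Upto.trans (mid := 22528) (Upto.trans (mid := 22016) ((Upto.of_pow conjJ_c42 (Nat.le_refl _)) : Upto _ _ 21504 (21504 + 2 ^ 9))
    ((Upto.of_pow conjJ_c43 (Nat.le_refl _)) : Upto _ _ 22016 (22016 + 2 ^ 9)))
    (Upto.trans (mid := 23040) ((Upto.of_pow conjJ_c44 (Nat.le_refl _)) : Upto _ _ 22528 (22528 + 2 ^ 9))
    ((Upto.of_pow conjJ_c45 (Nat.le_refl _)) : Upto _ _ 23040 (23040 + 2 ^ 9))))))
    (Upto.trans (mid := 27648) (Upto.trans (mid := 25600) (Upto.trans (mid := 24576) (Upto.trans (mid := 24064) ((Upto.of_pow conjJ_c46 (Nat.le_refl _)) : Upto _ _ 23552 (23552 + 2 ^ 9))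
    ((Upto.of_pow conjJ_c47 (Nat.le_refl _)) : Upto _ _ 24064 (24064 + 2 ^ 9)))
    (Upto.trans (mid := 25088) ((Upto.of_pow conjJ_c48 (Nat.le_refl _)) : Upto _ _ 24576 (24576 + 2 ^ 9))
    ((Upto.of_pow conjJ_c49 (Nat.le_refl _)) : Upto _ _ 25088 (25088 + 2 ^ 9))))
    (Upto.trans (mid := 26624) (Upto.trans (mid := 26112) ((Upto.of_pow conjJ_c50 (Nat.le_refl _)) : Upto _ _ 25600 (25600 + 2 ^ 9))
    ((Upto.of_pow conjJ_c51 (Nat.le_refl _)) : Upto _ _ 26112 (26112 + 2 ^ 9)))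
    (Upto.trans (mid := 27136) ((Upto.of_pow conjJ_c52 (Nat.le_refl _)) : Upto _ _ 26624 (26624 + 2 ^ 9))
    ((Upto.of_pow conjJ_c53 (Nat.le_refl _)) : Upto _ _ 27136 (27136 + 2 ^ 9)))))
    (Upto.trans (mid := 29696) (Upto.trans (mid := 28672) (Upto.trans (mid := 28160) ((Upto.of_pow conjJ_c54 (Nat.le_refl _)) : Upto _ _ 27648 (27648 + 2 ^ 9))
    ((Upto.of_pow conjJ_c55 (Nat.le_refl _)) : Upto _ _ 28160 (28160 + 2 ^ 9)))
    (Upto.trans (mid := 29184) ((Upto.of_pow conjJ_c56 (Nat.le_refl _)) : Upto _ _ 28672 (28672 + 2 ^ 9))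
    ((Upto.of_pow conjJ_c57 (Nat.le_refl _)) : Upto _ _ 29184 (29184 + 2 ^ 9))))
    (Upto.trans (mid := 30720) (Upto.trans (mid := 30208) ((Upto.of_pow conjJ_c58 (Nat.le_refl _)) : Upto _ _ 29696 (29696 + 2 ^ 9))
    ((Upto.of_pow conjJ_c59 (Nat.le_refl _)) : Upto _ _ 30208 (30208 + 2 ^ 9)))
    (Upto.trans (mid := 31232) ((Upto.of_pow conjJ_c60 (Nat.le_refl _)) : Upto _ _ 30720 (30720 + 2 ^ 9))
    ((Upto.of_pow conjJ_c61 (Nat.le_refl _)) : Upto _ _ 31232 (31232 + 2 ^ 9))))))))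
    (by decide) (by decide)

noncomputable abbrev τ : Fin 31671 → PresentedGroup (Cfsg.Spor.coxRelators Cfsg.Spor.Fi23.edges ∪ {r | r ∈ Cfsg.Spor.Fi23.extra}) :=
  tau Fi23X.certified zw

theorem evalW_rev :
    evalW (PresentedGroup.of (rels := Cfsg.Spor.coxRelators Cfsg.Spor.Fi23.edges ∪ {r | r ∈ Cfsg.Spor.Fi23.extra})) wJr = (evalW PresentedGroup.of wJ)⁻¹ := by
  rw [show wJr = wJ.reverse by decide +kernel, evalW_eq_prod, evalW_eq_prod, List.prod_inv_reverse, List.map_reverse, List.map_map]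
  congr 2
  refine List.map_congr_left fun x hx => ?_
  have hw : ∀ y ∈ wJ, y.2 = true ∧ [(y.1, true), (y.1, true)] ∈ Fi23X.relW := by decide +kernel
  obtain ⟨h1, h2⟩ := hw x hx
  have h3 := relW_one _ h2
  simp only [evalW_eq_prod, List.map_cons, List.map_nil, List.prod_cons, List.prod_nil, cond_true, mul_one] at h3
  rw [Function.comp, h1, cond_true, inv_eq_of_mul_eq_one_right h3]

theorem wordTabs_append {α : Type*} (tb : α → Bool → Nat → Nat) (w w' : List (α × Bool)) :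
    wordTabs tb (w ++ w') = wordTabs tb w' ++ wordTabs tb w := by simp [wordTabs]

theorem tau_j : τ pt8006 = PresentedGroup.of .j := by
  show tau Fi23X.certified zw _ = _
  rw [base.tau_word wJ pt8006 (by decide +kernel),
    show PresentedGroup.of (rels := Cfsg.Spor.coxRelators Cfsg.Spor.Fi23.edges ∪ {r | r ∈ Cfsg.Spor.Fi23.extra}) Cfsg.Spor.Fi23.Gen.j = evalW PresentedGroup.of [(.j, true)] by simp [evalW_eq_prod],
    ← show evalW (PresentedGroup.of (rels := Cfsg.Spor.coxRelators Cfsg.Spor.Fi23.edges ∪ {r | r ∈ Cfsg.Spor.Fi23.extra})) wJr = (evalW PresentedGroup.of wJ)⁻¹ from evalW_rev,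
    ← evalW_append, ← evalW_append]
  refine eq_of_trace hom_inj _ _ fun u hu => ?_
  rw [List.append_assoc, wordTabs_append, trace_append, wordTabs_append, trace_append,
    show trace (wordTabs Fi23X.tabs zw) _ = Fi23X.Z _ from Cfsg.Agent.S1688.trace_zw _ (trace_lt Fi23X.tablesOK _ u hu)]
  exact Nat.eq_of_beq_eq_true (allBelow_spec conjJ u hu)

theorem tau_g : τ pt8005 = PresentedGroup.of .g :=
  base.tau_braid tau_j (braid_symm (fun w hw => relW_one w ((show ∀ w ∈ ([[(.j, true), (.j, true)], [(.g, true), (.g, true)],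
      [(.g, true), (.j, true), (.g, true), (.j, true), (.g, true), (.j, true)]] : List (List (Cfsg.Spor.Fi23.Gen × Bool))), w ∈ Fi23X.relW by decide +kernel) w hw)))
    (by decide +kernel)

theorem tau_f : τ pt8002 = PresentedGroup.of .f :=
  base.tau_braid tau_g (braid_symm (fun w hw => relW_one w ((show ∀ w ∈ ([[(.g, true), (.g, true)], [(.f, true), (.f, true)],
      [(.f, true), (.g, true), (.f, true), (.g, true), (.f, true), (.g, true)]] : List (List (Cfsg.Spor.Fi23.Gen × Bool))), w ∈ Fi23X.relW by decide +kernel) w hw)))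
    (by decide +kernel)

theorem tau_e : τ pt8001 = PresentedGroup.of .e :=
  base.tau_braid tau_f (braid_symm (fun w hw => relW_one w ((show ∀ w ∈ ([[(.f, true), (.f, true)], [(.e, true), (.e, true)],
      [(.e, true), (.f, true), (.e, true), (.f, true), (.e, true), (.f, true)]] : List (List (Cfsg.Spor.Fi23.Gen × Bool))), w ∈ Fi23X.relW by decide +kernel) w hw)))
    (by decide +kernel)

theorem tau_d : τ pt8000 = PresentedGroup.of .d :=
  base.tau_braid tau_e (braid_symm (fun w hw => relW_one w ((show ∀ w ∈ ([[(.e, true), (.e, true)], [(.d, true), (.d, true)],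
      [(.d, true), (.e, true), (.d, true), (.e, true), (.d, true), (.e, true)]] : List (List (Cfsg.Spor.Fi23.Gen × Bool))), w ∈ Fi23X.relW by decide +kernel) w hw)))
    (by decide +kernel)

theorem tau_h : τ pt7999 = PresentedGroup.of .h :=
  base.tau_braid tau_d (fun w hw => relW_one w ((show ∀ w ∈ ([[(.d, true), (.d, true)], [(.h, true), (.h, true)],
      [(.d, true), (.h, true), (.d, true), (.h, true), (.d, true), (.h, true)]] : List (List (Cfsg.Spor.Fi23.Gen × Bool))), w ∈ Fi23X.relW by decide +kernel) w hw))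
    (by decide +kernel)

theorem tau_i : τ pt8007 = PresentedGroup.of .i :=
  base.tau_braid tau_h (fun w hw => relW_one w ((show ∀ w ∈ ([[(.h, true), (.h, true)], [(.i, true), (.i, true)],
      [(.h, true), (.i, true), (.h, true), (.i, true), (.h, true), (.i, true)]] : List (List (Cfsg.Spor.Fi23.Gen × Bool))), w ∈ Fi23X.relW by decide +kernel) w hw))
    (by decide +kernel)

theorem tau_c : τ pt8003 = PresentedGroup.of .c :=
  base.tau_braid tau_d (braid_symm (fun w hw => relW_one w ((show ∀ w ∈ ([[(.d, true), (.d, true)], [(.c, true), (.c, true)],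
      [(.c, true), (.d, true), (.c, true), (.d, true), (.c, true), (.d, true)]] : List (List (Cfsg.Spor.Fi23.Gen × Bool))), w ∈ Fi23X.relW by decide +kernel) w hw)))
    (by decide +kernel)

theorem tau_b : τ pt8004 = PresentedGroup.of .b :=
  base.tau_braid tau_c (braid_symm (fun w hw => relW_one w ((show ∀ w ∈ ([[(.c, true), (.c, true)], [(.b, true), (.b, true)],
      [(.b, true), (.c, true), (.b, true), (.c, true), (.b, true), (.c, true)]] : List (List (Cfsg.Spor.Fi23.Gen × Bool))), w ∈ Fi23X.relW by decide +kernel) w hw)))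
    (by decide +kernel)

theorem tau_a : τ pt11589 = PresentedGroup.of .a :=
  base.tau_braid tau_b (braid_symm (fun w hw => relW_one w ((show ∀ w ∈ ([[(.b, true), (.b, true)], [(.a, true), (.a, true)],
      [(.a, true), (.b, true), (.a, true), (.b, true), (.a, true), (.b, true)]] : List (List (Cfsg.Spor.Fi23.Gen × Bool))), w ∈ Fi23X.relW by decide +kernel) w hw)))
    (by decide +kernel)

theorem tau_P : ∀ x, τ (P x) = PresentedGroup.of x
  | .a => tau_a
  | .b => tau_b
  | .c => tau_c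
  | .d => tau_d
  | .e => tau_e
  | .f => tau_f
  | .g => tau_g
  | .j => tau_j
  | .h => tau_h
  | .i => tau_i

theorem labLt_c0 : allPow 31671 (fun u => Nat.blt (Fi23X.lab u) 3) 12 0 = true := by decide +kernel
theorem labLt_c1 : allPow 31671 (fun u => Nat.blt (Fi23X.lab u) 3) 12 4096 = true := by decide +kernel
theorem labLt_c2 : allPow 31671 (fun u => Nat.blt (Fi23X.lab u) 3) 12 8192 = true := by decide +kernel
theorem labLt_c3 : allPow 31671 (fun u => Nat.blt (Fi23X.lab u) 3) 12 12288 = true := by decide +kernel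
theorem labLt_c4 : allPow 31671 (fun u => Nat.blt (Fi23X.lab u) 3) 12 16384 = true := by decide +kernel
theorem labLt_c5 : allPow 31671 (fun u => Nat.blt (Fi23X.lab u) 3) 12 20480 = true := by decide +kernel
theorem labLt_c6 : allPow 31671 (fun u => Nat.blt (Fi23X.lab u) 3) 12 24576 = true := by decide +kernel
theorem labLt_c7 : allPow 31671 (fun u => Nat.blt (Fi23X.lab u) 3) 12 28672 = true := by decide +kernel
theorem labLt : allBelow 15 31671 (fun u => Nat.blt (Fi23X.lab u) 3) = true :=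
  allBelow_of_upto (hi := 32768)
    (Upto.trans (mid := 16384) (Upto.trans (mid := 8192) (Upto.trans (mid := 4096) ((Upto.of_pow labLt_c0 (Nat.le_refl _)) : Upto _ _ 0 (0 + 2 ^ 12))
    ((Upto.of_pow labLt_c1 (Nat.le_refl _)) : Upto _ _ 4096 (4096 + 2 ^ 12)))
    (Upto.trans (mid := 12288) ((Upto.of_pow labLt_c2 (Nat.le_refl _)) : Upto _ _ 8192 (8192 + 2 ^ 12))
    ((Upto.of_pow labLt_c3 (Nat.le_refl _)) : Upto _ _ 12288 (12288 + 2 ^ 12))))
    (Upto.trans (mid := 24576) (Upto.trans (mid := 20480) ((Upto.of_pow labLt_c4 (Nat.le_refl _)) : Upto _ _ 16384 (16384 + 2 ^ 12))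
    ((Upto.of_pow labLt_c5 (Nat.le_refl _)) : Upto _ _ 20480 (20480 + 2 ^ 12)))
    (Upto.trans (mid := 28672) ((Upto.of_pow labLt_c6 (Nat.le_refl _)) : Upto _ _ 24576 (24576 + 2 ^ 12))
    ((Upto.of_pow labLt_c7 (Nat.le_refl _)) : Upto _ _ 28672 (28672 + 2 ^ 12)))))
    (by decide) (by decide)

theorem tau_inj : Function.Injective τ := by
  refine base.injective Fi23X.subT rfl Fi23X.subT_spec Fi23X.lab Fi23X.root Fi23X.rk Fi23X.via Fi23X.src
    (allBelow_spec Fi23X.orbChk) Fi23X.lab_spec ?_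
  intro u hu hne
  have hl : Fi23X.lab u < 3 := by simpa [Nat.blt_eq] using allBelow_spec labLt u u.2
  generalize Fi23X.lab u = l at hu hl
  interval_cases l
  · exact absurd (Fin.ext (hu.trans (by decide +kernel))) hne
  · rw [hu]; exact ⟨[(.j, true)], 0, by decide, by decide +kernel, by decide +kernel⟩
  · rw [hu]; exact ⟨[(.j, true), (.g, true), (.f, true), (.e, true), (.d, true), (.h, true), (.c, true), (.d, true), (.e, true), (.f, true), (.g, true), (.j, true)], 1, by decide, by decide +kernel, by decide +kernel⟩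


end CfsgLib.SporRecognition.Cert.Fi23Conf
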