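import Cfsg.Agent.Lib.SporRecognition.Cert.Fi23Conf.Defs

/-! Generated configuration certificate for Fi23: generators at the root. -/

set_option autoImplicit false
set_option maxRecDepth 20000
set_option linter.all false
set_option Elab.async false

namespace CfsgLib.SporRecognition.Cert.Fi23Conf

open CfsgLib.SporRecognition.CosetCert
open CfsgLib.SporRecognition.FischerAut
open CfsgLib.SporRecognition.Cert

noncomputable def G0_0 : Nat → Nat := Fi23X.tabs .a true
theorem rg0_0 : Realised (ptsStab σ.range ([] : List (Fin 31671))) G0_0 :=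
  ⟨σ (evalW PresentedGroup.of [(.a, true)]), ⟨⟨_, rfl⟩, by simp⟩, fun u => by rw [hom_word]; rfl⟩

noncomputable def G0_1 : Nat → Nat := Fi23X.tabs .b true
theorem rg0_1 : Realised (ptsStab σ.range ([] : List (Fin 31671))) G0_1 :=
  ⟨σ (evalW PresentedGroup.of [(.b, true)]), ⟨⟨_, rfl⟩, by simp⟩, fun u => by rw [hom_word]; rfl⟩

noncomputable def G0_2 : Nat → Nat := Fi23X.tabs .c true
theorem rg0_2 : Realised (ptsStab σ.range ([] : List (Fin 31671))) G0_2 :=
  ⟨σ (evalW PresentedGroup.of [(.c, true)]), ⟨⟨_, rfl⟩, by simp⟩, fun u => by rw [hom_word]; rfl⟩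

noncomputable def G0_3 : Nat → Nat := Fi23X.tabs .d true
theorem rg0_3 : Realised (ptsStab σ.range ([] : List (Fin 31671))) G0_3 :=
  ⟨σ (evalW PresentedGroup.of [(.d, true)]), ⟨⟨_, rfl⟩, by simp⟩, fun u => by rw [hom_word]; rfl⟩

noncomputable def G0_4 : Nat → Nat := Fi23X.tabs .e true
theorem rg0_4 : Realised (ptsStab σ.range ([] : List (Fin 31671))) G0_4 :=
  ⟨σ (evalW PresentedGroup.of [(.e, true)]), ⟨⟨_, rfl⟩, by simp⟩, fun u => by rw [hom_word]; rfl⟩

noncomputable def G0_5 : Nat → Nat := Fi23X.tabs .f true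
theorem rg0_5 : Realised (ptsStab σ.range ([] : List (Fin 31671))) G0_5 :=
  ⟨σ (evalW PresentedGroup.of [(.f, true)]), ⟨⟨_, rfl⟩, by simp⟩, fun u => by rw [hom_word]; rfl⟩

noncomputable def G0_6 : Nat → Nat := Fi23X.tabs .g true
theorem rg0_6 : Realised (ptsStab σ.range ([] : List (Fin 31671))) G0_6 :=
  ⟨σ (evalW PresentedGroup.of [(.g, true)]), ⟨⟨_, rfl⟩, by simp⟩, fun u => by rw [hom_word]; rfl⟩

noncomputable def G0_7 : Nat → Nat := Fi23X.tabs .j true
theorem rg0_7 : Realised (ptsStab σ.range ([] : List (Fin 31671))) G0_7 :=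
  ⟨σ (evalW PresentedGroup.of [(.j, true)]), ⟨⟨_, rfl⟩, by simp⟩, fun u => by rw [hom_word]; rfl⟩

noncomputable def G0_8 : Nat → Nat := Fi23X.tabs .h true
theorem rg0_8 : Realised (ptsStab σ.range ([] : List (Fin 31671))) G0_8 :=
  ⟨σ (evalW PresentedGroup.of [(.h, true)]), ⟨⟨_, rfl⟩, by simp⟩, fun u => by rw [hom_word]; rfl⟩

noncomputable def G0_9 : Nat → Nat := Fi23X.tabs .i true
theorem rg0_9 : Realised (ptsStab σ.range ([] : List (Fin 31671))) G0_9 :=
  ⟨σ (evalW PresentedGroup.of [(.i, true)]), ⟨⟨_, rfl⟩, by simp⟩, fun u => by rw [hom_word]; rfl⟩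


end CfsgLib.SporRecognition.Cert.Fi23Conf
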