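import Cfsg.Agent.Lib.SporRecognition.Cert.Fi23Conf.Points
import Cfsg.Agent.Lib.SporRecognition.Cert.Fi23Conf.N15G0

/-! Generated configuration certificate for Fi23: orbits on the candidates at node 15. -/

set_option autoImplicit false
set_option maxRecDepth 20000
set_option linter.all false
set_option Elab.async false

namespace CfsgLib.SporRecognition.Cert.Fi23Conf

open CfsgLib.SporRecognition.CosetCert
open CfsgLib.SporRecognition.FischerAut
open CfsgLib.SporRecognition.Cert

noncomputable def gens15 : List (Nat → Nat) := [G15_0, G15_1, G15_2, G15_3, G15_4]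
theorem hts15 : ∀ t ∈ gens15, Realised (ptsStab σ.range ([pt8006, pt8005, pt8002, pt8001, pt71, pt11, pt5, pt7] : List (Fin 31671))) t :=
  (List.forall_mem_cons.mpr ⟨rg15_0, (List.forall_mem_cons.mpr ⟨rg15_1, (List.forall_mem_cons.mpr ⟨rg15_2, (List.forall_mem_cons.mpr ⟨rg15_3, (List.forall_mem_cons.mpr ⟨rg15_4, (fun _ h => absurd h List.not_mem_nil)⟩)⟩)⟩)⟩)⟩)

noncomputable def lab15 (_ : Nat) : Nat := 0
noncomputable def rk15 (_ : Nat) : Nat := 0
noncomputable def via15 (_ : Nat) : Nat := 0
noncomputable def src15 (_ : Nat) : Nat := 0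
noncomputable def root15 (_ : Nat) : Nat := 0
noncomputable def cand15 (u : Nat) : Bool := condStep [(t8006, false, 8006), (t8005, false, 8005), (t8002, false, 8002), (t8001, false, 8001), (t71, true, 71), (t11, false, 11), (t5, false, 5), (t7, false, 7)] u

theorem nchk15_c0 : allPow 31671 (nodeStep gens15 cand15 lab15 root15 rk15 via15 src15 0 31671) 10 0 = true := by decide +kernel
theorem nchk15_c1 : allPow 31671 (nodeStep gens15 cand15 lab15 root15 rk15 via15 src15 0 31671) 10 1024 = true := by decide +kernel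
theorem nchk15_c2 : allPow 31671 (nodeStep gens15 cand15 lab15 root15 rk15 via15 src15 0 31671) 10 2048 = true := by decide +kernel
theorem nchk15_c3 : allPow 31671 (nodeStep gens15 cand15 lab15 root15 rk15 via15 src15 0 31671) 10 3072 = true := by decide +kernel
theorem nchk15_c4 : allPow 31671 (nodeStep gens15 cand15 lab15 root15 rk15 via15 src15 0 31671) 10 4096 = true := by decide +kernel
theorem nchk15_c5 : allPow 31671 (nodeStep gens15 cand15 lab15 root15 rk15 via15 src15 0 31671) 10 5120 = true := by decide +kernel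
theorem nchk15_c6 : allPow 31671 (nodeStep gens15 cand15 lab15 root15 rk15 via15 src15 0 31671) 10 6144 = true := by decide +kernel
theorem nchk15_c7 : allPow 31671 (nodeStep gens15 cand15 lab15 root15 rk15 via15 src15 0 31671) 10 7168 = true := by decide +kernel
theorem nchk15_c8 : allPow 31671 (nodeStep gens15 cand15 lab15 root15 rk15 via15 src15 0 31671) 10 8192 = true := by decide +kernel
theorem nchk15_c9 : allPow 31671 (nodeStep gens15 cand15 lab15 root15 rk15 via15 src15 0 31671) 10 9216 = true := by decide +kernel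
theorem nchk15_c10 : allPow 31671 (nodeStep gens15 cand15 lab15 root15 rk15 via15 src15 0 31671) 10 10240 = true := by decide +kernel
theorem nchk15_c11 : allPow 31671 (nodeStep gens15 cand15 lab15 root15 rk15 via15 src15 0 31671) 10 11264 = true := by decide +kernel
theorem nchk15_c12 : allPow 31671 (nodeStep gens15 cand15 lab15 root15 rk15 via15 src15 0 31671) 10 12288 = true := by decide +kernel
theorem nchk15_c13 : allPow 31671 (nodeStep gens15 cand15 lab15 root15 rk15 via15 src15 0 31671) 10 13312 = true := by decide +kernel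
theorem nchk15_c14 : allPow 31671 (nodeStep gens15 cand15 lab15 root15 rk15 via15 src15 0 31671) 10 14336 = true := by decide +kernel
theorem nchk15_c15 : allPow 31671 (nodeStep gens15 cand15 lab15 root15 rk15 via15 src15 0 31671) 10 15360 = true := by decide +kernel
theorem nchk15_c16 : allPow 31671 (nodeStep gens15 cand15 lab15 root15 rk15 via15 src15 0 31671) 10 16384 = true := by decide +kernel
theorem nchk15_c17 : allPow 31671 (nodeStep gens15 cand15 lab15 root15 rk15 via15 src15 0 31671) 10 17408 = true := by decide +kernel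
theorem nchk15_c18 : allPow 31671 (nodeStep gens15 cand15 lab15 root15 rk15 via15 src15 0 31671) 10 18432 = true := by decide +kernel
theorem nchk15_c19 : allPow 31671 (nodeStep gens15 cand15 lab15 root15 rk15 via15 src15 0 31671) 10 19456 = true := by decide +kernel
theorem nchk15_c20 : allPow 31671 (nodeStep gens15 cand15 lab15 root15 rk15 via15 src15 0 31671) 10 20480 = true := by decide +kernel
theorem nchk15_c21 : allPow 31671 (nodeStep gens15 cand15 lab15 root15 rk15 via15 src15 0 31671) 10 21504 = true := by decide +kernel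
theorem nchk15_c22 : allPow 31671 (nodeStep gens15 cand15 lab15 root15 rk15 via15 src15 0 31671) 10 22528 = true := by decide +kernel
theorem nchk15_c23 : allPow 31671 (nodeStep gens15 cand15 lab15 root15 rk15 via15 src15 0 31671) 10 23552 = true := by decide +kernel
theorem nchk15_c24 : allPow 31671 (nodeStep gens15 cand15 lab15 root15 rk15 via15 src15 0 31671) 10 24576 = true := by decide +kernel
theorem nchk15_c25 : allPow 31671 (nodeStep gens15 cand15 lab15 root15 rk15 via15 src15 0 31671) 10 25600 = true := by decide +kernel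
theorem nchk15_c26 : allPow 31671 (nodeStep gens15 cand15 lab15 root15 rk15 via15 src15 0 31671) 10 26624 = true := by decide +kernel
theorem nchk15_c27 : allPow 31671 (nodeStep gens15 cand15 lab15 root15 rk15 via15 src15 0 31671) 10 27648 = true := by decide +kernel
theorem nchk15_c28 : allPow 31671 (nodeStep gens15 cand15 lab15 root15 rk15 via15 src15 0 31671) 10 28672 = true := by decide +kernel
theorem nchk15_c29 : allPow 31671 (nodeStep gens15 cand15 lab15 root15 rk15 via15 src15 0 31671) 10 29696 = true := by decide +kernel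
theorem nchk15_c30 : allPow 31671 (nodeStep gens15 cand15 lab15 root15 rk15 via15 src15 0 31671) 10 30720 = true := by decide +kernel
theorem nchk15 : allBelow 15 31671 (nodeStep gens15 cand15 lab15 root15 rk15 via15 src15 0 31671) = true :=
  allBelow_of_upto (hi := 31744)
    (Upto.trans (mid := 15360) (Upto.trans (mid := 7168) (Upto.trans (mid := 3072) (Upto.trans (mid := 1024) ((Upto.of_pow nchk15_c0 (Nat.le_refl _)) : Upto _ _ 0 (0 + 2 ^ 10))
    (Upto.trans (mid := 2048) ((Upto.of_pow nchk15_c1 (Nat.le_refl _)) : Upto _ _ 1024 (1024 + 2 ^ 10))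
    ((Upto.of_pow nchk15_c2 (Nat.le_refl _)) : Upto _ _ 2048 (2048 + 2 ^ 10))))
    (Upto.trans (mid := 5120) (Upto.trans (mid := 4096) ((Upto.of_pow nchk15_c3 (Nat.le_refl _)) : Upto _ _ 3072 (3072 + 2 ^ 10))
    ((Upto.of_pow nchk15_c4 (Nat.le_refl _)) : Upto _ _ 4096 (4096 + 2 ^ 10)))
    (Upto.trans (mid := 6144) ((Upto.of_pow nchk15_c5 (Nat.le_refl _)) : Upto _ _ 5120 (5120 + 2 ^ 10))
    ((Upto.of_pow nchk15_c6 (Nat.le_refl _)) : Upto _ _ 6144 (6144 + 2 ^ 10)))))
    (Upto.trans (mid := 11264) (Upto.trans (mid := 9216) (Upto.trans (mid := 8192) ((Upto.of_pow nchk15_c7 (Nat.le_refl _)) : Upto _ _ 7168 (7168 + 2 ^ 10))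
    ((Upto.of_pow nchk15_c8 (Nat.le_refl _)) : Upto _ _ 8192 (8192 + 2 ^ 10)))
    (Upto.trans (mid := 10240) ((Upto.of_pow nchk15_c9 (Nat.le_refl _)) : Upto _ _ 9216 (9216 + 2 ^ 10))
    ((Upto.of_pow nchk15_c10 (Nat.le_refl _)) : Upto _ _ 10240 (10240 + 2 ^ 10))))
    (Upto.trans (mid := 13312) (Upto.trans (mid := 12288) ((Upto.of_pow nchk15_c11 (Nat.le_refl _)) : Upto _ _ 11264 (11264 + 2 ^ 10))
    ((Upto.of_pow nchk15_c12 (Nat.le_refl _)) : Upto _ _ 12288 (12288 + 2 ^ 10)))
    (Upto.trans (mid := 14336) ((Upto.of_pow nchk15_c13 (Nat.le_refl _)) : Upto _ _ 13312 (13312 + 2 ^ 10))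
    ((Upto.of_pow nchk15_c14 (Nat.le_refl _)) : Upto _ _ 14336 (14336 + 2 ^ 10))))))
    (Upto.trans (mid := 23552) (Upto.trans (mid := 19456) (Upto.trans (mid := 17408) (Upto.trans (mid := 16384) ((Upto.of_pow nchk15_c15 (Nat.le_refl _)) : Upto _ _ 15360 (15360 + 2 ^ 10))
    ((Upto.of_pow nchk15_c16 (Nat.le_refl _)) : Upto _ _ 16384 (16384 + 2 ^ 10)))
    (Upto.trans (mid := 18432) ((Upto.of_pow nchk15_c17 (Nat.le_refl _)) : Upto _ _ 17408 (17408 + 2 ^ 10))
    ((Upto.of_pow nchk15_c18 (Nat.le_refl _)) : Upto _ _ 18432 (18432 + 2 ^ 10))))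
    (Upto.trans (mid := 21504) (Upto.trans (mid := 20480) ((Upto.of_pow nchk15_c19 (Nat.le_refl _)) : Upto _ _ 19456 (19456 + 2 ^ 10))
    ((Upto.of_pow nchk15_c20 (Nat.le_refl _)) : Upto _ _ 20480 (20480 + 2 ^ 10)))
    (Upto.trans (mid := 22528) ((Upto.of_pow nchk15_c21 (Nat.le_refl _)) : Upto _ _ 21504 (21504 + 2 ^ 10))
    ((Upto.of_pow nchk15_c22 (Nat.le_refl _)) : Upto _ _ 22528 (22528 + 2 ^ 10)))))
    (Upto.trans (mid := 27648) (Upto.trans (mid := 25600) (Upto.trans (mid := 24576) ((Upto.of_pow nchk15_c23 (Nat.le_refl _)) : Upto _ _ 23552 (23552 + 2 ^ 10))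
    ((Upto.of_pow nchk15_c24 (Nat.le_refl _)) : Upto _ _ 24576 (24576 + 2 ^ 10)))
    (Upto.trans (mid := 26624) ((Upto.of_pow nchk15_c25 (Nat.le_refl _)) : Upto _ _ 25600 (25600 + 2 ^ 10))
    ((Upto.of_pow nchk15_c26 (Nat.le_refl _)) : Upto _ _ 26624 (26624 + 2 ^ 10))))
    (Upto.trans (mid := 29696) (Upto.trans (mid := 28672) ((Upto.of_pow nchk15_c27 (Nat.le_refl _)) : Upto _ _ 27648 (27648 + 2 ^ 10))
    ((Upto.of_pow nchk15_c28 (Nat.le_refl _)) : Upto _ _ 28672 (28672 + 2 ^ 10)))
    (Upto.trans (mid := 30720) ((Upto.of_pow nchk15_c29 (Nat.le_refl _)) : Upto _ _ 29696 (29696 + 2 ^ 10))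
    ((Upto.of_pow nchk15_c30 (Nat.le_refl _)) : Upto _ _ 30720 (30720 + 2 ^ 10)))))))
    (by decide) (by decide)


end CfsgLib.SporRecognition.Cert.Fi23Conf
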