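import Cfsg.Agent.Lib.SporRecognition.Cert.Fi23Conf.Base
import Cfsg.Agent.Lib.SporRecognition.Cert.Fi23Conf.Points
import Cfsg.Agent.Lib.SporRecognition.Cert.Fi23Conf.N0
import Cfsg.Agent.Lib.SporRecognition.Cert.Fi23Conf.N1
import Cfsg.Agent.Lib.SporRecognition.Cert.Fi23Conf.N2
import Cfsg.Agent.Lib.SporRecognition.Cert.Fi23Conf.N3
import Cfsg.Agent.Lib.SporRecognition.Cert.Fi23Conf.N4
import Cfsg.Agent.Lib.SporRecognition.Cert.Fi23Conf.N5
import Cfsg.Agent.Lib.SporRecognition.Cert.Fi23Conf.N6
import Cfsg.Agent.Lib.SporRecognition.Cert.Fi23Conf.N7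
import Cfsg.Agent.Lib.SporRecognition.Cert.Fi23Conf.N8
import Cfsg.Agent.Lib.SporRecognition.Cert.Fi23Conf.N9
import Cfsg.Agent.Lib.SporRecognition.Cert.Fi23Conf.N10
import Cfsg.Agent.Lib.SporRecognition.Cert.Fi23Conf.N11
import Cfsg.Agent.Lib.SporRecognition.Cert.Fi23Conf.N12
import Cfsg.Agent.Lib.SporRecognition.Cert.Fi23Conf.N13
import Cfsg.Agent.Lib.SporRecognition.Cert.Fi23Conf.N14
import Cfsg.Agent.Lib.SporRecognition.Cert.Fi23Conf.N15

/-! Generated configuration certificate for Fi23: the search tree. -/

set_option autoImplicit false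
set_option maxRecDepth 20000
set_option linter.all false
set_option Elab.async false

namespace CfsgLib.SporRecognition.Cert.Fi23Conf

open CfsgLib.SporRecognition.CosetCert
open CfsgLib.SporRecognition.FischerAut
open CfsgLib.SporRecognition.Cert

theorem th11589 : Tabled τ σ pt11589 t11589 := tabled_gen _ _ tau_a
theorem th8004 : Tabled τ σ pt8004 t8004 := tabled_gen _ _ tau_b
theorem th8003 : Tabled τ σ pt8003 t8003 := tabled_gen _ _ tau_c
theorem th8000 : Tabled τ σ pt8000 t8000 := tabled_gen _ _ tau_d
theorem th8001 : Tabled τ σ pt8001 t8001 := tabled_gen _ _ tau_e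
theorem th8002 : Tabled τ σ pt8002 t8002 := tabled_gen _ _ tau_f
theorem th8005 : Tabled τ σ pt8005 t8005 := tabled_gen _ _ tau_g
theorem th8006 : Tabled τ σ pt8006 t8006 := tabled_gen _ _ tau_j
theorem th7999 : Tabled τ σ pt7999 t7999 := tabled_gen _ _ tau_h
theorem th8007 : Tabled τ σ pt8007 t8007 := tabled_gen _ _ tau_i
theorem th0 : Tabled τ σ pt0 t0 := fun u => by
  rw [show pt0 = 0 from rfl, show τ 0 = _ from base.tau_zero, hom_word, t0]
  exact Cfsg.Agent.S1688.trace_zw u u.2
theorem th1 : Tabled τ σ pt1 t1 := base.tabled_step .j th0 (by decide +kernel) tq1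
theorem th2 : Tabled τ σ pt2 t2 := base.tabled_step .g th1 (by decide +kernel) tq2
theorem th3 : Tabled τ σ pt3 t3 := base.tabled_step .f th2 (by decide +kernel) tq3
theorem th4 : Tabled τ σ pt4 t4 := base.tabled_step .e th3 (by decide +kernel) tq4
theorem th5 : Tabled τ σ pt5 t5 := base.tabled_step .d th4 (by decide +kernel) tq5
theorem th7 : Tabled τ σ pt7 t7 := base.tabled_step .h th5 (by decide +kernel) tq7
theorem th6 : Tabled τ σ pt6 t6 := base.tabled_step .c th5 (by decide +kernel) tq6
theorem th8 : Tabled τ σ pt8 t8 := base.tabled_step .b th6 (by decide +kernel) tq8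
theorem th11 : Tabled τ σ pt11 t11 := base.tabled_step .a th8 (by decide +kernel) tq11
theorem th12 : Tabled τ σ pt12 t12 := base.tabled_step .h th8 (by decide +kernel) tq12
theorem th16 : Tabled τ σ pt16 t16 := base.tabled_step .d th12 (by decide +kernel) tq16
theorem th22 : Tabled τ σ pt22 t22 := base.tabled_step .c th16 (by decide +kernel) tq22
theorem th32 : Tabled τ σ pt32 t32 := base.tabled_step .i th22 (by decide +kernel) tq32
theorem th48 : Tabled τ σ pt48 t48 := base.tabled_step .h th32 (by decide +kernel) tq48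
theorem th71 : Tabled τ σ pt71 t71 := base.tabled_step .d th48 (by decide +kernel) tq71

def t_cfg0 : Cfsg.Spor.Fi23.Gen → Fin 31671
  | .a => pt11589
  | .b => pt8004
  | .c => pt8003
  | .d => pt8000
  | .e => pt8001
  | .f => pt8002
  | .g => pt8005
  | .j => pt8006
  | .h => pt7999
  | .i => pt8007
theorem t_cfg0_eq : t_cfg0 = P := by funext x; cases x <;> rfl

def targets : List (Cfsg.Spor.Fi23.Gen → Fin 31671) := [t_cfg0]

theorem closed15 : Closed σ τ edge words targets ([(.j, pt8006), (.g, pt8005), (.f, pt8002), (.e, pt8001), (.d, pt71), (.c, pt11), (.b, pt5), (.a, pt7)] : List (Cfsg.Spor.Fi23.Gen × Fin 31671)) := by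
  refine Closed.node base.heq (qt := [t8006, t8005, t8002, t8001, t71, t11, t5, t7]) .h (by decide) (.cons th8006 (.cons th8005 (.cons th8002 (.cons th8001 (.cons th71 (.cons th11 (.cons th5 (.cons th7 .nil)))))))) gens15 hts15 lab15 root15 rk15 via15 src15 0 (allBelow_spec nchk15) ?_
  intro l hl
  exact absurd hl (Nat.not_lt_zero l)

theorem closed14 : Closed σ τ edge words targets ([(.j, pt8006), (.g, pt8005), (.f, pt8002), (.e, pt8001), (.d, pt71), (.c, pt11), (.b, pt5)] : List (Cfsg.Spor.Fi23.Gen × Fin 31671)) := by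
  refine Closed.node base.heq (qt := [t8006, t8005, t8002, t8001, t71, t11, t5]) .a (by decide) (.cons th8006 (.cons th8005 (.cons th8002 (.cons th8001 (.cons th71 (.cons th11 (.cons th5 .nil))))))) gens14 hts14 lab14 root14 rk14 via14 src14 1 (allBelow_spec nchk14) ?_
  intro l hl r hr
  interval_cases l
  · obtain rfl : r = pt7 := Fin.ext (hr.trans (by decide +kernel))
    exact closed15

theorem closed13 : Closed σ τ edge words targets ([(.j, pt8006), (.g, pt8005), (.f, pt8002), (.e, pt8001), (.d, pt71), (.c, pt11)] : List (Cfsg.Spor.Fi23.Gen × Fin 31671)) := by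
  refine Closed.node base.heq (qt := [t8006, t8005, t8002, t8001, t71, t11]) .b (by decide) (.cons th8006 (.cons th8005 (.cons th8002 (.cons th8001 (.cons th71 (.cons th11 .nil)))))) gens13 hts13 lab13 root13 rk13 via13 src13 1 (allBelow_spec nchk13) ?_
  intro l hl r hr
  interval_cases l
  · obtain rfl : r = pt5 := Fin.ext (hr.trans (by decide +kernel))
    exact closed14

theorem closed12 : Closed σ τ edge words targets ([(.j, pt8006), (.g, pt8005), (.f, pt8002), (.e, pt8001), (.d, pt71)] : List (Cfsg.Spor.Fi23.Gen × Fin 31671)) := by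
  refine Closed.node base.heq (qt := [t8006, t8005, t8002, t8001, t71]) .c (by decide) (.cons th8006 (.cons th8005 (.cons th8002 (.cons th8001 (.cons th71 .nil))))) gens12 hts12 lab12 root12 rk12 via12 src12 1 (allBelow_spec nchk12) ?_
  intro l hl r hr
  interval_cases l
  · obtain rfl : r = pt11 := Fin.ext (hr.trans (by decide +kernel))
    exact closed13

theorem closed11 : Closed σ τ edge words targets ([(.j, pt8006), (.g, pt8005), (.f, pt8002), (.e, pt8001), (.d, pt8000), (.c, pt8003), (.b, pt7), (.a, pt8007)] : List (Cfsg.Spor.Fi23.Gen × Fin 31671)) := by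
  refine Closed.node base.heq (qt := [t8006, t8005, t8002, t8001, t8000, t8003, t7, t8007]) .h (by decide) (.cons th8006 (.cons th8005 (.cons th8002 (.cons th8001 (.cons th8000 (.cons th8003 (.cons th7 (.cons th8007 .nil)))))))) gens11 hts11 lab11 root11 rk11 via11 src11 0 (allBelow_spec nchk11) ?_
  intro l hl
  exact absurd hl (Nat.not_lt_zero l)

theorem closed10 : Closed σ τ edge words targets ([(.j, pt8006), (.g, pt8005), (.f, pt8002), (.e, pt8001), (.d, pt8000), (.c, pt8003), (.b, pt7)] : List (Cfsg.Spor.Fi23.Gen × Fin 31671)) := by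
  refine Closed.node base.heq (qt := [t8006, t8005, t8002, t8001, t8000, t8003, t7]) .a (by decide) (.cons th8006 (.cons th8005 (.cons th8002 (.cons th8001 (.cons th8000 (.cons th8003 (.cons th7 .nil))))))) gens10 hts10 lab10 root10 rk10 via10 src10 1 (allBelow_spec nchk10) ?_
  intro l hl r hr
  interval_cases l
  · obtain rfl : r = pt8007 := Fin.ext (hr.trans (by decide +kernel))
    exact closed11

theorem closed9 : Closed σ τ edge words targets ([(.j, pt8006), (.g, pt8005), (.f, pt8002), (.e, pt8001), (.d, pt8000), (.c, pt8003), (.b, pt8004), (.a, pt11589), (.h, pt7999)] : List (Cfsg.Spor.Fi23.Gen × Fin 31671)) := by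
  refine Closed.node base.heq (qt := [t8006, t8005, t8002, t8001, t8000, t8003, t8004, t11589, t7999]) .i (by decide) (.cons th8006 (.cons th8005 (.cons th8002 (.cons th8001 (.cons th8000 (.cons th8003 (.cons th8004 (.cons th11589 (.cons th7999 .nil))))))))) gens9 hts9 lab9 root9 rk9 via9 src9 1 (allBelow_spec nchk9) ?_
  intro l hl r hr
  interval_cases l
  · obtain rfl : r = pt8007 := Fin.ext (hr.trans (by decide +kernel))
    exact Closed.full (fun x => by cases x <;> exact ⟨_, by first | exact (List.mem_append.mpr (by first | exact Or.inr (List.mem_singleton.mpr rfl) | (left; simp; rfl)))⟩) t_cfg0 (by simp [targets]) (by decide)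

theorem closed8 : Closed σ τ edge words targets ([(.j, pt8006), (.g, pt8005), (.f, pt8002), (.e, pt8001), (.d, pt8000), (.c, pt8003), (.b, pt8004), (.a, pt11589)] : List (Cfsg.Spor.Fi23.Gen × Fin 31671)) := by
  refine Closed.node base.heq (qt := [t8006, t8005, t8002, t8001, t8000, t8003, t8004, t11589]) .h (by decide) (.cons th8006 (.cons th8005 (.cons th8002 (.cons th8001 (.cons th8000 (.cons th8003 (.cons th8004 (.cons th11589 .nil)))))))) gens8 hts8 lab8 root8 rk8 via8 src8 1 (allBelow_spec nchk8) ?_
  intro l hl r hr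
  interval_cases l
  · obtain rfl : r = pt7999 := Fin.ext (hr.trans (by decide +kernel))
    exact closed9

theorem closed7 : Closed σ τ edge words targets ([(.j, pt8006), (.g, pt8005), (.f, pt8002), (.e, pt8001), (.d, pt8000), (.c, pt8003), (.b, pt8004)] : List (Cfsg.Spor.Fi23.Gen × Fin 31671)) := by
  refine Closed.node base.heq (qt := [t8006, t8005, t8002, t8001, t8000, t8003, t8004]) .a (by decide) (.cons th8006 (.cons th8005 (.cons th8002 (.cons th8001 (.cons th8000 (.cons th8003 (.cons th8004 .nil))))))) gens7 hts7 lab7 root7 rk7 via7 src7 1 (allBelow_spec nchk7) ?_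
  intro l hl r hr
  interval_cases l
  · obtain rfl : r = pt11589 := Fin.ext (hr.trans (by decide +kernel))
    exact closed8

theorem closed6 : Closed σ τ edge words targets ([(.j, pt8006), (.g, pt8005), (.f, pt8002), (.e, pt8001), (.d, pt8000), (.c, pt8003)] : List (Cfsg.Spor.Fi23.Gen × Fin 31671)) := by
  refine Closed.node base.heq (qt := [t8006, t8005, t8002, t8001, t8000, t8003]) .b (by decide) (.cons th8006 (.cons th8005 (.cons th8002 (.cons th8001 (.cons th8000 (.cons th8003 .nil)))))) gens6 hts6 lab6 root6 rk6 via6 src6 2 (allBelow_spec nchk6) ?_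
  intro l hl r hr
  interval_cases l
  · obtain rfl : r = pt8004 := Fin.ext (hr.trans (by decide +kernel))
    exact closed7
  · obtain rfl : r = pt7 := Fin.ext (hr.trans (by decide +kernel))
    exact closed10

theorem closed5 : Closed σ τ edge words targets ([(.j, pt8006), (.g, pt8005), (.f, pt8002), (.e, pt8001), (.d, pt8000)] : List (Cfsg.Spor.Fi23.Gen × Fin 31671)) := by
  refine Closed.node base.heq (qt := [t8006, t8005, t8002, t8001, t8000]) .c (by decide) (.cons th8006 (.cons th8005 (.cons th8002 (.cons th8001 (.cons th8000 .nil))))) gens5 hts5 lab5 root5 rk5 via5 src5 1 (allBelow_spec nchk5) ?_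
  intro l hl r hr
  interval_cases l
  · obtain rfl : r = pt8003 := Fin.ext (hr.trans (by decide +kernel))
    exact closed6

theorem closed4 : Closed σ τ edge words targets ([(.j, pt8006), (.g, pt8005), (.f, pt8002), (.e, pt8001)] : List (Cfsg.Spor.Fi23.Gen × Fin 31671)) := by
  refine Closed.node base.heq (qt := [t8006, t8005, t8002, t8001]) .d (by decide) (.cons th8006 (.cons th8005 (.cons th8002 (.cons th8001 .nil)))) gens4 hts4 lab4 root4 rk4 via4 src4 2 (allBelow_spec nchk4) ?_
  intro l hl r hr
  interval_cases l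
  · obtain rfl : r = pt8000 := Fin.ext (hr.trans (by decide +kernel))
    exact closed5
  · obtain rfl : r = pt71 := Fin.ext (hr.trans (by decide +kernel))
    exact closed12

theorem closed3 : Closed σ τ edge words targets ([(.j, pt8006), (.g, pt8005), (.f, pt8002)] : List (Cfsg.Spor.Fi23.Gen × Fin 31671)) := by
  refine Closed.node base.heq (qt := [t8006, t8005, t8002]) .e (by decide) (.cons th8006 (.cons th8005 (.cons th8002 .nil))) gens3 hts3 lab3 root3 rk3 via3 src3 1 (allBelow_spec nchk3) ?_
  intro l hl r hr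
  interval_cases l
  · obtain rfl : r = pt8001 := Fin.ext (hr.trans (by decide +kernel))
    exact closed4

theorem closed2 : Closed σ τ edge words targets ([(.j, pt8006), (.g, pt8005)] : List (Cfsg.Spor.Fi23.Gen × Fin 31671)) := by
  refine Closed.node base.heq (qt := [t8006, t8005]) .f (by decide) (.cons th8006 (.cons th8005 .nil)) gens2 hts2 lab2 root2 rk2 via2 src2 1 (allBelow_spec nchk2) ?_
  intro l hl r hr
  interval_cases l
  · obtain rfl : r = pt8002 := Fin.ext (hr.trans (by decide +kernel))
    exact closed3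

theorem closed1 : Closed σ τ edge words targets ([(.j, pt8006)] : List (Cfsg.Spor.Fi23.Gen × Fin 31671)) := by
  refine Closed.node base.heq (qt := [t8006]) .g (by decide) (.cons th8006 .nil) gens1 hts1 lab1 root1 rk1 via1 src1 1 (allBelow_spec nchk1) ?_
  intro l hl r hr
  interval_cases l
  · obtain rfl : r = pt8005 := Fin.ext (hr.trans (by decide +kernel))
    exact closed2

theorem closed0 : Closed σ τ edge words targets ([] : List (Cfsg.Spor.Fi23.Gen × Fin 31671)) := by
  refine Closed.node base.heq (qt := []) .j (by decide) .nil gens0 hts0 lab0 root0 rk0 via0 src0 1 (allBelow_spec nchk0) ?_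
  intro l hl r hr
  interval_cases l
  · obtain rfl : r = pt8006 := Fin.ext (hr.trans (by decide +kernel))
    exact closed1


end CfsgLib.SporRecognition.Cert.Fi23Conf
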